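import Mathlib
import Cfsg.Prelude.Def_Blocks

/-!
# Radical `p`-subgroups and permutations (helper806, task BLK2 of S4578)

`exists_full` : `π : H → Sym(n)` with central kernel of order prime to `p`, `D` a radical `p`-subgroup of `H`, all
`p`-elements of `Sym(n)` in the image: there is `u ∈ Z(D)` with `π u` of type `(p^w)` whose support contains the
support of `D`, and the `p`-regular elements of `C_H(D)` are disjoint from it.
-/

set_option autoImplicit false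
set_option linter.unusedSectionVars false

namespace Cfsg.Agent.H806.Blk

open Equiv

/-! ### Permutations -/

section perm

variable {α : Type*} {E : Subgroup (Perm α)}

theorem ais (f : Perm α) (x : α) : f (f⁻¹ x) = x := f.apply_symm_apply x

theorem isa (f : Perm α) (x : α) : f⁻¹ (f x) = x := f.symm_apply_apply x

/-- The permutations commuting with `E` and agreeing on each orbit of `E` with an element of `E`. -/
def AA (E : Subgroup (Perm α)) : Subgroup (Perm α) where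
  carrier := {σ | (∀ e ∈ E, σ * e = e * σ) ∧ ∀ x, ∃ e ∈ E, ∀ f ∈ E, σ (f x) = e (f x)}
  one_mem' := ⟨fun e _ => by rw [one_mul, mul_one], fun x => ⟨1, E.one_mem, fun f _ => rfl⟩⟩
  mul_mem' := by
    rintro σ τ ⟨h1, h2⟩ ⟨h3, h4⟩
    refine ⟨fun e he => by rw [mul_assoc, h3 e he, ← mul_assoc, h1 e he, mul_assoc], fun x => ?_⟩
    obtain ⟨e, he, h5⟩ := h2 x
    obtain ⟨e', he', h6⟩ := h4 x
    refine ⟨e * e', E.mul_mem he he', fun f hf => ?_⟩
    show σ (τ (f x)) = e (e' (f x))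
    rw [h6 f hf]
    exact h5 (e' * f) (E.mul_mem he' hf)
  inv_mem' := by
    rintro σ ⟨h1, h2⟩
    refine ⟨fun e he => ?_, fun x => ?_⟩
    · have := h1 e he
      calc σ⁻¹ * e = σ⁻¹ * (e * σ) * σ⁻¹ := by group
        _ = σ⁻¹ * (σ * e) * σ⁻¹ := by rw [this]
        _ = e * σ⁻¹ := by group
    · obtain ⟨e, he, h5⟩ := h2 x
      refine ⟨e⁻¹, E.inv_mem he, fun f hf => ?_⟩
      rw [Perm.inv_eq_iff_eq]
      have := h5 (e⁻¹ * f) (E.mul_mem (E.inv_mem he) hf)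
      rw [Perm.mul_apply, ais] at this
      exact this.symm

theorem AA_pow {σ : Perm α} {x : α} {e : Perm α} (he : e ∈ E) (h : ∀ f ∈ E, σ (f x) = e (f x)) (k : ℕ) :
    (σ ^ k) x = (e ^ k) x := by
  induction k with
  | zero => rfl
  | succ k ih =>
    rw [pow_succ', Perm.mul_apply, ih, h _ (E.pow_mem he k), ← Perm.mul_apply, ← pow_succ']

theorem AA_isPGroup [Finite α] {p : ℕ} [Fact p.Prime] (hE : IsPGroup p E) : IsPGroup p (AA E) := by
  obtain ⟨N, hN⟩ := IsPGroup.iff_card.1 hE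
  intro σ
  refine ⟨N, Subtype.ext ?_⟩
  show (σ : Perm α) ^ p ^ N = 1
  ext x
  obtain ⟨e, he, h⟩ := σ.2.2 x
  rw [AA_pow he h, ← hN]
  have : (⟨e, he⟩ : E) ^ Nat.card E = 1 := pow_card_eq_one'
  rw [show e ^ Nat.card E = 1 from congrArg Subtype.val this]

theorem AA_conj {g : Perm α} (hg : ∀ e ∈ E, g * e * g⁻¹ ∈ E) (hg' : ∀ e ∈ E, g⁻¹ * e * g ∈ E) {σ : Perm α}
    (hσ : σ ∈ AA E) : g * σ * g⁻¹ ∈ AA E := by
  obtain ⟨h1, h2⟩ := hσ
  refine ⟨fun e he => ?_, fun x => ?_⟩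
  · have := h1 _ (hg' e he)
    calc g * σ * g⁻¹ * e = g * (σ * (g⁻¹ * e * g)) * g⁻¹ := by group
      _ = g * (g⁻¹ * e * g * σ) * g⁻¹ := by rw [this]
      _ = e * (g * σ * g⁻¹) := by group
  · obtain ⟨e, he, h⟩ := h2 (g⁻¹ x)
    refine ⟨g * e * g⁻¹, hg e he, fun f hf => ?_⟩
    have := h _ (hg' f hf)
    simp only [Perm.mul_apply, ais] at this ⊢
    rw [this]

theorem AA_sup_le (g : Perm α) (hg : g ∈ AA E ⊔ E) : ∀ e ∈ E, g * e * g⁻¹ ∈ E := by
  have h1 : AA E ⊔ E ≤ Subgroup.normalizer (E : Set (Perm α)) := by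
    refine sup_le (fun σ hσ => ?_) Subgroup.le_normalizer
    rw [Subgroup.mem_normalizer_iff]
    intro h
    have key : ∀ k, k ∈ E → σ * k * σ⁻¹ = k := fun k hk => by rw [hσ.1 k hk, mul_inv_cancel_right]
    constructor
    · intro hh
      rw [key h hh]; exact hh
    · intro hh
      have h2 : σ⁻¹ * (σ * h * σ⁻¹) * σ = σ * h * σ⁻¹ := by
        have := hσ.1 _ hh
        calc σ⁻¹ * (σ * h * σ⁻¹) * σ = σ⁻¹ * ((σ * h * σ⁻¹) * σ) := by group
          _ = σ⁻¹ * (σ * (σ * h * σ⁻¹)) := by rw [this]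
          _ = σ * h * σ⁻¹ := by group
      have h3 : h = σ * h * σ⁻¹ := by
        calc h = σ⁻¹ * (σ * h * σ⁻¹) * σ := by group
          _ = _ := h2
      rw [h3]; exact hh
  intro e he
  exact (Subgroup.mem_normalizer_iff.1 (h1 hg) e).1 he

theorem sup_conj {g : Perm α} (hg : ∀ e ∈ E, g * e * g⁻¹ ∈ E) (hg' : ∀ e ∈ E, g⁻¹ * e * g ∈ E) {σ : Perm α}
    (hσ : σ ∈ AA E ⊔ E) : g * σ * g⁻¹ ∈ AA E ⊔ E := by
  have h1 : AA E ⊔ E ≤ (AA E ⊔ E).comap (MulAut.conj g).toMonoidHom := by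
    refine sup_le (fun τ hτ => ?_) (fun τ hτ => ?_)
    · exact Subgroup.mem_sup_left (AA_conj hg hg' hτ)
    · exact Subgroup.mem_sup_right (hg τ hτ)
  exact h1 hσ

/-- A central element of order `p` on a nontrivial orbit. -/
theorem exists_c [Finite α] {p : ℕ} [hp : Fact p.Prime] (hE : IsPGroup p E) (x : α) (hx : ∃ e ∈ E, e x ≠ x) :
    ∃ c ∈ E, (∀ f ∈ E, ∀ g ∈ E, c (f (g x)) = f (c (g x))) ∧ (∀ f ∈ E, (c ^ p) (f x) = f x) ∧
      ∀ f ∈ E, c (f x) ≠ f x := by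
  let O := MulAction.orbit E x
  let ρ : E →* Perm O := MulAction.toPermHom E O
  have hρ : ∀ (e : E) (y : O), ((ρ e y : O) : α) = (e : Perm α) y := fun e y => rfl
  have hmem : ∀ f ∈ E, f x ∈ O := fun f hf => ⟨⟨f, hf⟩, rfl⟩
  have hR : IsPGroup p ρ.range := by
    intro y
    obtain ⟨_, e, rfl⟩ := y
    obtain ⟨k, hk⟩ := hE e
    refine ⟨k, Subtype.ext ?_⟩
    show ρ e ^ p ^ k = 1
    rw [← map_pow, hk, map_one]
  have hnt : Nontrivial ρ.range := by
    obtain ⟨e, he, h1⟩ := hx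
    refine ⟨⟨⟨ρ ⟨e, he⟩, ⟨_, rfl⟩⟩, 1, fun h => h1 ?_⟩⟩
    have h2 : ρ ⟨e, he⟩ = 1 := congrArg Subtype.val h
    have h3 := congrArg (fun s : Perm O => ((s ⟨x, MulAction.mem_orbit_self x⟩ : O) : α)) h2
    exact h3
  have hcn := hR.center_nontrivial
  have hc : IsPGroup p (Subgroup.center ρ.range) := hR.to_subgroup _
  obtain ⟨n, hn0, hn⟩ := (IsPGroup.nontrivial_iff_card hc).1 hcn
  obtain ⟨z, hz⟩ := exists_prime_orderOf_dvd_card' (G := Subgroup.center ρ.range) p (by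
    rw [hn]; exact dvd_pow_self p hn0.ne')
  obtain ⟨⟨⟨_, c, rfl⟩, hzc⟩, rfl⟩ : ∃ z' : Subgroup.center ρ.range, z' = z := ⟨z, rfl⟩
  have hzp : (ρ c) ^ p = 1 := by
    have h1 := pow_orderOf_eq_one (⟨⟨ρ c, ⟨c, rfl⟩⟩, hzc⟩ : Subgroup.center ρ.range)
    rw [hz] at h1
    exact congrArg (fun s : Subgroup.center ρ.range => ((s : ρ.range) : Perm O)) h1
  have hcomm : ∀ f : E, ρ c * ρ f = ρ f * ρ c := by
    intro f
    have h1 := Subgroup.mem_center_iff.1 hzc ⟨ρ f, ⟨f, rfl⟩⟩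
    exact (congrArg Subtype.val h1).symm
  have h2 : ∀ f ∈ E, ∀ g ∈ E, (c : Perm α) (f (g x)) = f ((c : Perm α) (g x)) := by
    intro f hf g hg
    have h3 := congrArg (fun s : Perm O => ((s ⟨g x, hmem g hg⟩ : O) : α)) (hcomm ⟨f, hf⟩)
    exact h3
  refine ⟨c, c.2, h2, ?_, ?_⟩
  · intro f hf
    have h3 := congrArg (fun s : Perm O => ((s ⟨f x, hmem f hf⟩ : O) : α)) hzp
    rw [← map_pow] at h3
    exact h3
  · intro f hf h3
    have h4 : ρ c = 1 := by
      ext ⟨y, hy⟩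
      obtain ⟨g, rfl⟩ := hy
      show (c : Perm α) ((g : Perm α) x) = (g : Perm α) x
      have h5 := h2 ((g : Perm α) * f⁻¹) (E.mul_mem g.2 (E.inv_mem hf)) f hf
      simp only [Perm.mul_apply, isa] at h5
      rw [h5, h3, isa]
    have h5 : (⟨⟨ρ c, ⟨c, rfl⟩⟩, hzc⟩ : Subgroup.center ρ.range) = 1 := Subtype.ext (Subtype.ext h4)
    rw [h5, orderOf_one] at hz
    exact hp.out.one_lt.ne hz

/-- The permutation acting as the chosen elements on the orbits. -/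
theorem exists_u [Finite α] {p : ℕ} [hp : Fact p.Prime] (hE : IsPGroup p E) : ∃ u : Perm α,
    u ∈ AA E ∧ u ^ p = 1 ∧ (∀ x, (∃ e ∈ E, e x ≠ x) → u x ≠ x) ∧
    ∀ x, u x ≠ x → ∃ z ∈ AA E, z x ≠ x ∧ ∀ y, z y ≠ y → ∃ e ∈ E, e x = y := by
  classical
  -- a choice function on the orbits
  let r : Setoid α := MulAction.orbitRel E α
  have hr : ∀ x y : α, r x y ↔ ∃ e ∈ E, e y = x := by
    intro x y
    rw [MulAction.orbitRel_apply]
    constructor
    · rintro ⟨e, he⟩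
      exact ⟨e, e.2, he⟩
    · rintro ⟨e, he, h⟩
      exact ⟨⟨e, he⟩, h⟩
  have hex : ∀ x, ∃ c ∈ E, (∀ f ∈ E, ∀ g ∈ E, c (f (g x)) = f (c (g x))) ∧ (∀ f ∈ E, (c ^ p) (f x) = f x) ∧
      ((∃ e ∈ E, e x ≠ x) → ∀ f ∈ E, c (f x) ≠ f x) := by
    intro x
    by_cases hx : ∃ e ∈ E, e x ≠ x
    · obtain ⟨c, h1, h2, h3, h4⟩ := exists_c hE x hx
      exact ⟨c, h1, h2, h3, fun _ => h4⟩
    · refine ⟨1, E.one_mem, fun f _ g _ => rfl, fun f _ => ?_, fun h => absurd h hx⟩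
      rw [one_pow]; rfl
  choose c₀ hc1 hc2 hc3 hc4 using hex
  let q : α → Quotient r := Quotient.mk r
  let c : α → Perm α := fun x => c₀ (Quotient.out (q x))
  have hout : ∀ x, ∃ e ∈ E, e x = Quotient.out (q x) := by
    intro x
    have h1 : r (Quotient.out (q x)) x := Quotient.mk_out x
    exact (hr _ _).1 h1
  have hout' : ∀ x, ∃ e ∈ E, e (Quotient.out (q x)) = x := by
    intro x
    obtain ⟨e, he, h⟩ := hout x
    exact ⟨e⁻¹, E.inv_mem he, by rw [Perm.inv_eq_iff_eq, h]⟩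
  have hq : ∀ x, ∀ f ∈ E, q (f x) = q x := fun x f hf => Quotient.sound ((hr _ _).2 ⟨f, hf, rfl⟩)
  have hcE : ∀ x, c x ∈ E := fun x => hc1 _
  have hcf : ∀ x, ∀ f ∈ E, c (f x) = c x := fun x f hf => by
    show c₀ (Quotient.out (q (f x))) = c₀ (Quotient.out (q x))
    rw [hq x f hf]
  have hcomm : ∀ x, ∀ f ∈ E, ∀ g ∈ E, c x (f (g x)) = f (c x (g x)) := by
    intro x f hf g hg
    obtain ⟨e, he, h⟩ := hout' x
    have := hc2 (Quotient.out (q x)) f hf (g * e) (E.mul_mem hg he)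
    rw [Perm.mul_apply, h] at this
    exact this
  have hcomm1 : ∀ x, ∀ f ∈ E, c x (f x) = f (c x x) := fun x f hf => hcomm x f hf 1 E.one_mem
  have hpow : ∀ x, (c x ^ p) x = x := by
    intro x
    obtain ⟨e, he, h⟩ := hout' x
    have := hc3 (Quotient.out (q x)) e he
    rwa [h] at this
  have hmove : ∀ x, (∃ e ∈ E, e x ≠ x) → c x x ≠ x := by
    intro x hx
    obtain ⟨e, he, h⟩ := hout' x
    have := hc4 (Quotient.out (q x)) ?_ e he
    · rwa [h] at this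
    · obtain ⟨f, hf, hf1⟩ := hx
      refine ⟨e⁻¹ * f * e, E.mul_mem (E.mul_mem (E.inv_mem he) hf) he, fun h1 => hf1 ?_⟩
      rw [Perm.mul_apply, Perm.mul_apply, h, Perm.inv_eq_iff_eq, h] at h1
      exact h1
  let u : Perm α :=
    { toFun := fun x => c x x
      invFun := fun x => (c x)⁻¹ x
      left_inv := fun x => by
        show (c (c x x))⁻¹ (c x x) = x
        rw [hcf x _ (hcE x), isa]
      right_inv := fun x => by
        show c ((c x)⁻¹ x) ((c x)⁻¹ x) = x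
        rw [hcf x _ (E.inv_mem (hcE x)), ais] }
  have hu : ∀ x, u x = c x x := fun x => rfl
  have huA : u ∈ AA E := by
    refine ⟨fun e he => ?_, fun x => ⟨c x, hcE x, fun f hf => ?_⟩⟩
    · ext x
      show u (e x) = e (u x)
      rw [hu, hu, hcf x e he, hcomm1 x e he]
    · rw [hu, hcf x f hf]
  refine ⟨u, huA, ?_, fun x hx => hmove x hx, ?_⟩
  · ext x
    rw [AA_pow (hcE x) (fun f hf => by rw [hu, hcf x f hf]), hpow]
    rfl
  · intro x hx
    have hsw : ∀ y, ∀ f ∈ E, ((∃ e ∈ E, e x = f y) ↔ ∃ e ∈ E, e x = y) := by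
      intro y f hf
      constructor
      · rintro ⟨e, he, h⟩
        exact ⟨f⁻¹ * e, E.mul_mem (E.inv_mem hf) he, by rw [Perm.mul_apply, h, isa]⟩
      · rintro ⟨e, he, h⟩
        exact ⟨f * e, E.mul_mem hf he, by rw [Perm.mul_apply, h]⟩
    let z : Perm α :=
      { toFun := fun y => if ∃ e ∈ E, e x = y then c y y else y
        invFun := fun y => if ∃ e ∈ E, e x = y then (c y)⁻¹ y else y
        left_inv := fun y => by
          by_cases hy : ∃ e ∈ E, e x = y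
          · have h1 : ∃ e ∈ E, e x = c y y := (hsw y _ (hcE y)).2 hy
            simp only [if_pos hy, if_pos h1]
            rw [hcf y _ (hcE y), isa]
          · simp only [if_neg hy]
        right_inv := fun y => by
          by_cases hy : ∃ e ∈ E, e x = y
          · have h1 : ∃ e ∈ E, e x = (c y)⁻¹ y := (hsw y _ (E.inv_mem (hcE y))).2 hy
            simp only [if_pos hy, if_pos h1]
            rw [hcf y _ (E.inv_mem (hcE y)), ais]
          · simp only [if_neg hy] }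
    have hz : ∀ y, z y = if ∃ e ∈ E, e x = y then c y y else y := fun y => rfl
    refine ⟨z, ⟨fun e he => ?_, fun y => ?_⟩, ?_, fun y hy => ?_⟩
    · ext y
      show z (e y) = e (z y)
      by_cases hy : ∃ e ∈ E, e x = y
      · rw [hz, hz, if_pos ((hsw y e he).2 hy), if_pos hy, hcf y e he, hcomm1 y e he]
      · rw [hz, hz, if_neg (fun h => hy ((hsw y e he).1 h)), if_neg hy]
    · by_cases hy : ∃ e ∈ E, e x = y
      · refine ⟨c y, hcE y, fun f hf => ?_⟩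
        rw [hz, if_pos ((hsw y f hf).2 hy), hcf y f hf]
      · refine ⟨1, E.one_mem, fun f hf => ?_⟩
        rw [hz, if_neg (fun h => hy ((hsw y f hf).1 h))]
        rfl
    · rw [hz, if_pos ⟨1, E.one_mem, rfl⟩]
      exact hx
    · by_contra h
      exact hy (by rw [hz, if_neg h])

end perm

/-! ### Groups -/

section group

variable {H : Type*} [Group H]

/-- A `p`-element in a coset of the kernel. -/
theorem exists_p_lift [Finite H] {G : Type*} [Group G] (π : H →* G) {p : ℕ} [hp : Fact p.Prime] (b : H)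
    (h : ∃ k : ℕ, orderOf (π b) = p ^ k) : ∃ c ∈ Subgroup.zpowers b, π c = π b ∧ ∃ k : ℕ, orderOf c = p ^ k := by
  obtain ⟨j, hj⟩ := h
  have hb := orderOf_pos b
  set k := (orderOf b).factorization p with hk
  set m := orderOf b / p ^ k with hm
  have hkm : p ^ k * m = orderOf b := Nat.ordProj_mul_ordCompl_eq_self _ _
  have hpm : Nat.Coprime (p ^ k) m := (Nat.coprime_ordCompl hp.out hb.ne').pow_left k
  have hbez := Nat.gcd_eq_gcd_ab (p ^ k) m
  rw [hpm.gcd_eq_one] at hbez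
  set v := Nat.gcdA (p ^ k) m
  set t := Nat.gcdB (p ^ k) m
  have hjk : p ^ j ∣ p ^ k := by
    have h1 : p ^ j ∣ p ^ k * m := by
      rw [hkm, ← hj]
      exact orderOf_map_dvd π b
    exact (Nat.Coprime.dvd_of_dvd_mul_right ((Nat.coprime_ordCompl hp.out hb.ne').pow_left j) h1)
  refine ⟨b ^ ((m : ℤ) * t), ⟨_, rfl⟩, ?_, ?_⟩
  · have h1 : ((m : ℤ) * t) = 1 - (p ^ k : ℕ) * v := by
      have : ((1 : ℕ) : ℤ) = (p ^ k : ℕ) * v + (m : ℤ) * t := hbez
      push_cast at this ⊢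
      linarith
    rw [map_zpow, h1, zpow_sub, zpow_one, zpow_mul, zpow_natCast]
    have h2 : π b ^ (p ^ k) = 1 := orderOf_dvd_iff_pow_eq_one.1 (by rw [hj]; exact hjk)
    rw [h2, one_zpow, inv_one, mul_one]
  · have h1 : (b ^ ((m : ℤ) * t)) ^ (p ^ k) = 1 := by
      rw [← zpow_natCast, ← zpow_mul]
      have h2 : (m : ℤ) * t * ((p ^ k : ℕ) : ℤ) = (orderOf b : ℤ) * t := by
        rw [← hkm]; push_cast; ring
      rw [h2, zpow_mul, zpow_natCast, pow_orderOf_eq_one, one_zpow]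
    obtain ⟨i, -, hi⟩ := (Nat.dvd_prime_pow hp.out).1 (orderOf_dvd_of_pow_eq_one h1)
    exact ⟨i, hi⟩

/-- The normal Sylow subgroup of a nilpotent subgroup. -/
theorem exists_pSub [Finite H] {p : ℕ} [hp : Fact p.Prime] (B : Subgroup H) [Group.IsNilpotent B] :
    ∃ Q : Subgroup H, Q ≤ B ∧ IsPGroup p Q ∧ ∀ b ∈ B, (∃ k : ℕ, orderOf b = p ^ k) → b ∈ Q := by
  obtain ⟨P⟩ : Nonempty (Sylow p B) := inferInstance
  refine ⟨(P : Subgroup B).map B.subtype, Subgroup.map_subtype_le _, P.isPGroup'.map _, fun b hb hk => ?_⟩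
  have h1 : IsPGroup p (Subgroup.zpowers (⟨b, hb⟩ : B)) := by
    obtain ⟨k, hk⟩ := hk
    refine IsPGroup.of_card (n := k) ?_
    rw [Nat.card_zpowers, Subgroup.orderOf_mk, hk]
  obtain ⟨P', hP'⟩ := h1.exists_le_sylow
  have hN : (P : Subgroup B).Normal := inferInstance
  have := Sylow.unique_of_normal P hN
  have h2 : P' = P := Subsingleton.elim _ _
  rw [h2] at hP'
  exact ⟨⟨b, hb⟩, hP' (Subgroup.mem_zpowers _), rfl⟩

/-- **BLK2.** -/
theorem exists_full {n p : ℕ} [hp : Fact p.Prime] {H : Type*} [Group H] [Finite H]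
    (π : H →* Equiv.Perm (Fin n)) (hker : π.ker ≤ Subgroup.center H)
    (hkerp : ¬ p ∣ Nat.card π.ker) {D : Subgroup H} (hDp : IsPGroup p D)
    (hrad : ∀ Q : Subgroup H, IsPGroup p Q → D ≤ Q → Q ≤ Subgroup.normalizer (D : Set H) →
      (∀ x ∈ Subgroup.normalizer (D : Set H), ∀ y ∈ Q, x * y * x⁻¹ ∈ Q) → Q ≤ D)
    (heven : ∀ σ : Equiv.Perm (Fin n), (∃ k : ℕ, orderOf σ = p ^ k) → σ ∈ π.range) :
    ∃ u ∈ D, (∀ d ∈ D, d * u = u * d) ∧ (∃ w : ℕ, (π u).cycleType = Multiset.replicate w p) ∧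
      (∀ y ∈ D, (π y).support ⊆ (π u).support) ∧
      ∀ g : H, Cfsg.IsPRegular p g → (∀ d ∈ D, d * g = g * d) → Equiv.Perm.Disjoint (π u) (π g) := by
  classical
  set E : Subgroup (Equiv.Perm (Fin n)) := D.map π with hE
  have hEp : IsPGroup p E := hDp.map π
  have hmemE : ∀ d ∈ D, π d ∈ E := fun d hd => ⟨d, hd, rfl⟩
  -- elements of `D · ker` which are `p`-elements lie in `D`
  have hDK : ∀ d ∈ D, ∀ k ∈ π.ker, (∃ j : ℕ, (d * k) ^ p ^ j = 1) → k = 1 := by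
    rintro d hd k hk ⟨j, hj⟩
    have hkc : Commute d k := ((Subgroup.mem_center_iff.1 (hker hk)) d)
    obtain ⟨N, hN⟩ := hDp ⟨d, hd⟩
    have hN' : d ^ p ^ N = 1 := congrArg Subtype.val hN
    have h1 : k ^ p ^ (j + N) = 1 := by
      have h2 : (d * k) ^ p ^ (j + N) = 1 := by rw [pow_add, pow_mul, hj, one_pow]
      have h3 : d ^ p ^ (j + N) = 1 := by rw [add_comm, pow_add, pow_mul, hN', one_pow]
      rwa [hkc.mul_pow, h3, one_mul] at h2
    have h2 : orderOf k ∣ p ^ (j + N) := orderOf_dvd_of_pow_eq_one h1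
    have h3 : orderOf k ∣ Nat.card π.ker := by
      have := orderOf_dvd_natCard (⟨k, hk⟩ : π.ker)
      rwa [Subgroup.orderOf_mk] at this
    have h4 : Nat.Coprime (p ^ (j + N)) (Nat.card π.ker) :=
      Nat.Coprime.pow_left _ ((Nat.Prime.coprime_iff_not_dvd hp.out).2 hkerp)
    exact orderOf_eq_one_iff.1 (Nat.eq_one_of_dvd_coprimes h4 h2 h3)
  -- the preimage of `AA E ⊔ E`
  have hS : IsPGroup p (AA E ⊔ E : Subgroup (Equiv.Perm (Fin n))) := by
    refine IsPGroup.to_sup_of_normal_right' (AA_isPGroup hEp) hEp fun σ hσ => ?_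
    rw [Subgroup.mem_normalizer_iff]
    intro h
    exact ⟨fun hh => AA_sup_le σ (Subgroup.mem_sup_left hσ) h hh, fun hh => by
      have := AA_sup_le σ⁻¹ (Subgroup.mem_sup_left ((AA E).inv_mem hσ)) _ hh
      rwa [show σ⁻¹ * (σ * h * σ⁻¹) * σ⁻¹⁻¹ = h by group] at this⟩
  set B : Subgroup H := (AA E ⊔ E).comap π with hB
  have hBn : Group.IsNilpotent B := by
    have hSn : Group.IsNilpotent (AA E ⊔ E : Subgroup (Equiv.Perm (Fin n))) := hS.isNilpotent
    let f : B →* (AA E ⊔ E : Subgroup (Equiv.Perm (Fin n))) :=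
      (π.comp B.subtype).codRestrict _ fun b => b.2
    refine Subgroup.isNilpotent_of_ker_le_center f fun b hb => ?_
    have h1 : π b = 1 := congrArg Subtype.val hb
    rw [Subgroup.mem_center_iff]
    intro c
    exact Subtype.ext (Subgroup.mem_center_iff.1 (hker (h1 : (b : H) ∈ π.ker)) (c : H))
  obtain ⟨Q, hQB, hQp, hQ⟩ := exists_pSub (p := p) B
  have hDQ : D ≤ Q := by
    intro d hd
    refine hQ d (Subgroup.mem_sup_right (hmemE d hd)) ?_
    obtain ⟨k, hk⟩ := (IsPGroup.iff_orderOf.1 hDp) ⟨d, hd⟩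
    exact ⟨k, by rwa [Subgroup.orderOf_mk] at hk⟩
  -- `Q` normalises `D`
  have hQN : ∀ q ∈ Q, ∀ d ∈ D, q * d * q⁻¹ ∈ D := by
    intro q hq d hd
    have h1 : π q * π d * (π q)⁻¹ ∈ E := AA_sup_le (π q) (hQB hq) _ (hmemE d hd)
    obtain ⟨d', hd', h2⟩ := h1
    have h3 : d'⁻¹ * (q * d * q⁻¹) ∈ π.ker := by
      rw [MonoidHom.mem_ker, map_mul, map_inv, h2, map_mul, map_mul, map_inv, inv_mul_cancel]
    obtain ⟨N, hN⟩ := hDp ⟨d, hd⟩
    have hN' : d ^ p ^ N = 1 := congrArg Subtype.val hN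
    have h4 := hDK d' hd' _ h3 ⟨N, by rw [mul_inv_cancel_left, conj_pow, hN', mul_one, mul_inv_cancel]⟩
    rw [inv_mul_eq_one] at h4
    rwa [← h4]
  have hQN' : Q ≤ Subgroup.normalizer (D : Set H) := by
    intro q hq
    rw [Subgroup.mem_normalizer_iff]
    intro h
    exact ⟨fun hh => hQN q hq h hh, fun hh => by
      have := hQN q⁻¹ (Q.inv_mem hq) _ hh
      rwa [show q⁻¹ * (q * h * q⁻¹) * q⁻¹⁻¹ = h by group] at this⟩
  -- the normaliser of `D` normalises `Q`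
  have hNQ : ∀ x ∈ Subgroup.normalizer (D : Set H), ∀ y ∈ Q, x * y * x⁻¹ ∈ Q := by
    intro x hx y hy
    have hx1 : ∀ d ∈ D, x * d * x⁻¹ ∈ D := fun d hd => (Subgroup.mem_normalizer_iff.1 hx d).1 hd
    have hx2 : ∀ d ∈ D, x⁻¹ * d * x ∈ D := fun d hd => by
      rw [Subgroup.mem_normalizer_iff.1 hx]
      rwa [show x * (x⁻¹ * d * x) * x⁻¹ = d by group]
    refine hQ _ ?_ ?_
    · show π (x * y * x⁻¹) ∈ AA E ⊔ E
      rw [map_mul, map_mul, map_inv]
      refine sup_conj ?_ ?_ (hQB hy)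
      · rintro _ ⟨d, hd, rfl⟩
        exact ⟨_, hx1 d hd, by rw [map_mul, map_mul, map_inv]⟩
      · rintro _ ⟨d, hd, rfl⟩
        exact ⟨_, hx2 d hd, by rw [map_mul, map_mul, map_inv]⟩
    · obtain ⟨k, hk⟩ := (IsPGroup.iff_orderOf.1 hQp) ⟨y, hy⟩
      rw [Subgroup.orderOf_mk] at hk
      refine ⟨k, ?_⟩
      rw [← hk]
      exact (MulAut.conj x).orderOf_eq y
  have hQD := hrad Q hQp hDQ hQN' hNQ
  -- `AA E ≤ E`
  have hAE : AA E ≤ E := by
    intro σ hσ
    obtain ⟨k, hk⟩ := (IsPGroup.iff_orderOf.1 (AA_isPGroup hEp)) ⟨σ, hσ⟩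
    rw [Subgroup.orderOf_mk] at hk
    obtain ⟨b, rfl⟩ := heven σ ⟨k, hk⟩
    obtain ⟨c, -, hc, j, hj⟩ := exists_p_lift π b ⟨k, hk⟩
    refine ⟨c, hQD (hQ c ?_ ⟨j, hj⟩), hc⟩
    show π c ∈ AA E ⊔ E
    rw [hc]
    exact Subgroup.mem_sup_left hσ
  obtain ⟨v, hvA, hvp, hvm, hvz⟩ := exists_u hEp
  obtain ⟨u, huD, hu⟩ := hAE hvA
  refine ⟨u, huD, fun d hd => ?_, ?_, ?_, ?_⟩
  · -- central
    have h1 : u⁻¹ * (d * u * d⁻¹) ∈ π.ker := by
      rw [MonoidHom.mem_ker, map_mul, map_inv, map_mul, map_mul, map_inv, hu, ← hvA.1 _ (hmemE d hd)]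
      group
    have h2 : d * u * d⁻¹ ∈ D := D.mul_mem (D.mul_mem hd huD) (D.inv_mem hd)
    obtain ⟨N, hN⟩ := hDp ⟨_, h2⟩
    have h4 := hDK u huD _ h1 ⟨N, by rw [mul_inv_cancel_left]; exact congrArg Subtype.val hN⟩
    rw [inv_mul_eq_one, eq_mul_inv_iff_mul_eq] at h4
    exact h4.symm
  · rw [hu]
    exact ⟨_, Equiv.Perm.cycleType_of_pow_prime_eq_one hvp⟩
  · intro y hy x hx
    rw [Equiv.Perm.mem_support] at hx ⊢
    rw [hu]
    exact hvm x ⟨π y, hmemE y hy, hx⟩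
  · intro g hg hgD x
    rw [hu]
    by_cases hx : v x = x
    · exact Or.inl hx
    right
    obtain ⟨z, hzA, hzx, hz⟩ := hvz x hx
    have hcomm : ∀ e ∈ E, ∀ y, π g (e y) = e (π g y) := by
      rintro _ ⟨d, hd, rfl⟩ y
      have h1 : π d * π g = π g * π d := by rw [← map_mul, ← map_mul, hgD d hd]
      exact (congrArg (fun s : Equiv.Perm (Fin n) => s y) h1).symm
    have h1 : z (π g x) ≠ π g x := by
      rw [← hcomm z (hAE hzA)]
      intro h2
      exact hzx ((π g).injective h2)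
    obtain ⟨e, he, hex⟩ := hz _ h1
    -- `π g x = e x`
    have hpow : ∀ k : ℕ, ((π g) ^ k) x = (e ^ k) x := by
      intro k
      induction k with
      | zero => rfl
      | succ k ih =>
        rw [pow_succ', Equiv.Perm.mul_apply, ih, hcomm _ (E.pow_mem he k), ← hex, ← Equiv.Perm.mul_apply,
          ← pow_succ]
    have h2 : (e ^ orderOf g) x = x := by
      rw [← hpow]
      have : (π g) ^ orderOf g = 1 := by rw [← map_pow, pow_orderOf_eq_one, map_one]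
      rw [this]; rfl
    obtain ⟨k, hk⟩ := (IsPGroup.iff_orderOf.1 hEp) ⟨e, he⟩
    rw [Subgroup.orderOf_mk] at hk
    have hcop : Nat.Coprime (orderOf e) (orderOf g) := by
      rw [hk]
      exact Nat.Coprime.pow_left _ ((Nat.Prime.coprime_iff_not_dvd hp.out).2 hg)
    have h3 : e ∈ Subgroup.zpowers (e ^ orderOf g) := mem_zpowers_pow_iff.2 hcop.symm
    obtain ⟨j, hj⟩ := h3
    rw [← hex, ← hj]
    have h4 : e ^ orderOf g ∈ MulAction.stabilizer (Equiv.Perm (Fin n)) x := h2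
    exact (MulAction.stabilizer (Equiv.Perm (Fin n)) x).zpow_mem h4 j

end group

end Cfsg.Agent.H806.Blk
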